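import Cfsg.Agent.H690.LieGood
import Cfsg.Agent.H419.Row
import Cfsg.Agent.H713.Spor.Tool

/-!
# `Good` from characters of defect zero (helper690)
-/

set_option autoImplicit false

namespace Cfsg.Agent.H690.Spor.GoodTool

open Cfsg Cfsg.Agent.H713 Cfsg.Agent.H665.NoPQ Cfsg.Agent.H690.LieGood

variable {S : Type*} [Group S]

theorem good_of_evMix (h : H419.Row.EvMix S) : Good S := by
  obtain ⟨x, hx, h2, p, hp, hp2, hpx⟩ := h
  exact good_of_mixed hx (a := 2) (b := p) Nat.prime_two hp (Ne.symm hp2) h2 hpx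

/-- Two primes with characters of defect zero. -/
theorem good_of_dz [Finite S] {p q : ℕ} (hp : p.Prime) (hq : q.Prime) (hpq : p ≠ q) (h1 : HasDZ p S)
    (h2 : HasDZ q S) (hpS : p ∣ Nat.card S) (hqS : q ∣ Nat.card S) : Good S := by
  have : Fact p.Prime := ⟨hp⟩
  have : Fact q.Prime := ⟨hq⟩
  obtain ⟨x, hx⟩ := exists_prime_orderOf_dvd_card' (G := S) p hpS
  obtain ⟨y, hy⟩ := exists_prime_orderOf_dvd_card' (G := S) q hqS
  exact good_of_two (HasDZ.vz h1 (by rw [hx])) (HasDZ.vz h2 (by rw [hy])) hp hq hpq hx hy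

/-- A composite order. -/
theorem good_of_elt [Finite S] {p : ℕ} (hp : p.Prime) (hS : ¬ p * p ∣ Nat.card S) (h : HasDZ p S) {y : S}
    (hy : p ∣ orderOf y) (hy' : orderOf y ≠ p) : Good S := by
  have : Fact p.Prime := ⟨hp⟩
  obtain ⟨k, hk⟩ := hy
  have hk1 : k ≠ 1 := by
    rintro rfl
    rw [mul_one] at hk
    exact hy' hk
  obtain ⟨q, hq, hqk⟩ := Nat.exists_prime_and_dvd hk1
  have hqp : q ≠ p := by
    rintro rfl
    apply hS
    exact (Nat.mul_dvd_mul_left q hqk).trans ((hk ▸ dvd_rfl : q * k ∣ orderOf y).trans (orderOf_dvd_natCard y))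
  exact good_of_mixed (HasDZ.vz h (hk ▸ Dvd.intro _ rfl)) hp hq (Ne.symm hqp) (hk ▸ Dvd.intro _ rfl)
    (hk ▸ hqk.mul_left p)

theorem good_of_not_dvd [Finite S] {p : ℕ} (hp : p.Prime) (hd : p ∣ Nat.card S) (hS : ¬ p * p ∣ Nat.card S)
    (h : HasDZ p S) (hA : ¬ (Nat.card S / p) % p ∣ p - 1) : Good S := by
  have : Fact p.Prime := ⟨hp⟩
  obtain ⟨y, hy, hy'⟩ := exists_orderOf_of_not_dvd (factorization_eq_one hd hS) hA
  exact good_of_elt hp hS h hy hy'

end Cfsg.Agent.H690.Spor.GoodTool
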