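import Cfsg.Agent.H713.Spor.ON
import Cfsg.Agent.CpAutON.Seven
import Cfsg.Agent.OddOrderLocal.HallPi
import Cfsg.Agent.S0205
import Cfsg.Agent.H690.Spor.GoodTool

/-!
# `O'N`: a character of 11-defect zero (helper690)

An element of order 7 commutes with no element of order 11.
-/

set_option autoImplicit false

namespace Cfsg.Agent.H690.Spor.ONRow

open Cfsg Cfsg.Agent.H713 Cfsg.Agent.H665.NoPQ Cfsg.Agent.H690.LieGood
open Cfsg.Spor (ON)
open Cfsg.Agent.SporadicB.ON45Word (on)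
open Cfsg.Agent.KFacts.ON.Words (vv v)
open Subgroup

universe u

theorem fourth : ∀ c : ZMod 11, c ^ 4 = 1 → c ^ 2 = 1 := by decide

/-- A solvable group with an element `v` of order dividing 4: some element of order 11 commutes with `v²`. -/
theorem key {G : Type*} [Group G] [Finite G] (hs : Group.IsSolvable G) (h11 : 11 ∣ Nat.card G)
    (hsq : ¬ 11 * 11 ∣ Nat.card G) (h10 : ¬ 2 ^ 10 ∣ Nat.card G) {v : G} (hv : v ^ 4 = 1) :
    ∃ y : G, orderOf y = 11 ∧ y * v ^ 2 = v ^ 2 * y := by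
  have f11 : Fact (Nat.Prime 11) := ⟨by norm_num⟩
  obtain ⟨K, hK, hKi, hvK⟩ := Cfsg.Agent.OddOrderLocal.HallPi.exists_hall_ge_top (G := G) ({2, 11} : Set ℕ)
    (X := zpowers v) (by
      intro q hq hd
      left
      rw [Nat.card_zpowers] at hd
      have h1 : q ∣ 2 ^ 2 := hd.trans (orderOf_dvd_of_pow_eq_one hv)
      exact (Nat.prime_dvd_prime_iff_eq hq Nat.prime_two).1 (hq.dvd_of_dvd_pow h1))
  have hvK' : v ∈ K := hvK (mem_zpowers v)
  have hKd : Nat.card K ∣ Nat.card G := K.card_subgroup_dvd_card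
  have hK11 : 11 ∣ Nat.card K := by
    rw [← K.card_mul_index] at h11
    exact (f11.out.dvd_mul.1 h11).resolve_right (hKi 11 f11.out (by right; rfl))
  let P : Sylow 11 K := default
  have hP : Nat.card P = 11 := by
    rw [P.card_eq_multiplicity]
    have h1 : (Nat.card K).factorization 11 = 1 := by
      refine factorization_eq_one hK11 fun h => hsq (h.trans hKd)
    rw [h1, pow_one]
  -- the index of `P` is a power of 2
  have hidx : ∃ a : ℕ, (P : Subgroup K).index = 2 ^ a := by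
    have h0 : (P : Subgroup K).index ≠ 0 := Subgroup.index_ne_zero_of_finite
    refine ⟨_, Nat.eq_prime_pow_of_unique_prime_dvd h0 fun {q} hq hd => ?_⟩
    have h1 : q ∣ Nat.card K := hd.trans ((P : Subgroup K).index_dvd_card)
    rcases hK q hq h1 with h2 | h2
    · exact h2
    · exfalso
      have h3 : q = 11 := h2
      rw [h3] at hd
      exact P.not_dvd_index hd
  obtain ⟨a, ha⟩ := hidx
  have ha9 : a ≤ 9 := by
    by_contra hcon
    apply h10
    refine (pow_dvd_pow 2 (by omega : 10 ≤ a)).trans ?_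
    rw [← ha]
    exact ((P : Subgroup K).index_dvd_card).trans hKd
  have hn : Nat.card (Sylow 11 K) = 1 := by
    have h1 : Nat.card (Sylow 11 K) ∣ 2 ^ a := ha ▸ Sylow.card_dvd_index P
    have h2 : Nat.card (Sylow 11 K) ≡ 1 [MOD 11] := card_sylow_modEq_one 11 K
    obtain ⟨b, hb, hb2⟩ := (Nat.dvd_prime_pow Nat.prime_two).1 h1
    rw [hb2] at h2 ⊢
    have hb9 : b < 10 := by omega
    interval_cases b <;> first | rfl | (exfalso; revert h2; decide)
  have hsub : Subsingleton (Sylow 11 K) := (Nat.card_eq_one_iff_unique.1 hn).1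
  have hPn : (P : Subgroup K).Normal := Sylow.normal_of_subsingleton P
  obtain ⟨y, hy⟩ := exists_prime_orderOf_dvd_card' (G := P) 11 (by rw [hP])
  have hgen : ∀ z : K, z ∈ (P : Subgroup K) → ∃ i : ℕ, (y : K) ^ i = z := by
    intro z hz
    have h1 : zpowers y = ⊤ := by
      apply Subgroup.eq_top_of_card_eq
      rw [Nat.card_zpowers, hy, hP]
    have h2 : (⟨z, hz⟩ : P) ∈ zpowers y := by rw [h1]; exact mem_top _
    obtain ⟨i, hi⟩ := (mem_powers_iff_mem_zpowers (x := y) (y := ⟨z, hz⟩)).2 h2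
    exact ⟨i, congrArg Subtype.val hi⟩
  set w : K := ⟨v, hvK'⟩ with hw
  have hw4 : w ^ 4 = 1 := Subtype.ext hv
  have hyo : orderOf (y : K) = 11 := by rw [Subgroup.orderOf_coe]; exact hy
  obtain ⟨i, hi⟩ := hgen (w * y * w⁻¹) (hPn.conj_mem _ y.2 w)
  have hpow : ∀ k : ℕ, w ^ k * (y : K) * (w ^ k)⁻¹ = (y : K) ^ (i ^ k) := by
    intro k
    induction k with
    | zero => simp
    | succ k ih =>
      have h1 : w ^ (k + 1) * (y : K) * (w ^ (k + 1))⁻¹ = w * (w ^ k * (y : K) * (w ^ k)⁻¹) * w⁻¹ := by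
        rw [pow_succ']
        group
      rw [h1, ih, ← conj_pow, ← hi, ← pow_mul, pow_succ']
  have h4 := hpow 4
  rw [hw4] at h4
  simp only [one_mul, inv_one, mul_one] at h4
  have h5 : (i ^ 4 : ℕ) ≡ 1 [MOD 11] := by
    rw [← hyo]
    refine (pow_eq_pow_iff_modEq (x := (y : K))).1 ?_
    rw [pow_one]
    exact h4.symm
  have h6 : (i ^ 2 : ℕ) ≡ 1 [MOD 11] := by
    have h8 : ((i ^ 4 : ℕ) : ZMod 11) = ((1 : ℕ) : ZMod 11) := (ZMod.natCast_eq_natCast_iff _ _ _).2 h5
    push_cast at h8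
    have h9 := fourth _ h8
    refine (ZMod.natCast_eq_natCast_iff _ _ _).1 ?_
    push_cast
    exact h9
  have h7 := hpow 2
  have h8 : (y : K) ^ (i ^ 2) = (y : K) ^ 1 := by
    rw [pow_eq_pow_iff_modEq, hyo]
    exact h6
  rw [h8, pow_one] at h7
  refine ⟨((y : K) : G), by rw [Subgroup.orderOf_coe]; exact hyo, ?_⟩
  have h9 : w ^ 2 * (y : K) = (y : K) * w ^ 2 := mul_inv_eq_iff_eq_mul.1 h7
  have h10' := congrArg (fun z : K => (z : G)) h9
  exact h10'.symm

theorem card_ON : Nat.card ON = 460815505920 := Cfsg.Agent.KFacts.ON.OneClass.card_ON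

instance instFiniteON : Finite ON := Nat.finite_of_card_ne_zero (by rw [card_ON]; norm_num)

theorem card_inv {u : ON} (hu : orderOf u = 2) : Nat.card (centralizer ({u} : Set ON)) = 161280 := by
  obtain ⟨h1, h2⟩ := orderOf_two hu
  exact (Cfsg.Agent.Blocks.SylowIn.card_centralizer_of_isConj
      (Cfsg.Agent.KFacts.ON.OneClass.one_class h1 h2)).symm.trans
      Cfsg.Agent.KFacts.ON.Cent.card_cent

theorem centralizer_conj {G : Type*} [Group G] (g y : G) :
    Nat.card (centralizer ({g * y * g⁻¹} : Set G)) = Nat.card (centralizer ({y} : Set G)) :=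
  Cfsg.Agent.Blocks.SylowIn.card_centralizer_of_isConj (isConj_iff.2 ⟨g, rfl⟩)

/-- an element of order 7 commuting with `f` commutes with `v` -/
theorem comm_v {y : ON} (hy : y ^ 7 = 1) (h : y * on .f = on .f * y) : y * v = v * y := by
  have hK : y ∈ Cfsg.Agent.ONType.TupK.K0 := Cfsg.Agent.KFacts.ON.Struct.mem_K0.2 h
  have h1 : y ^ 2 * v * (y ^ 2)⁻¹ = v := by
    have e : y ^ 2 * v * (y ^ 2)⁻¹ = y * (y * v * y⁻¹) * y⁻¹ := by rw [pow_two]; group
    rw [e]
    rcases Cfsg.Agent.KFacts.ON.Struct.conj_v hK with h2 | h2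
    · rw [h2, h2]
    · rw [h2]
      have e2 : y * v⁻¹ * y⁻¹ = (y * v * y⁻¹)⁻¹ := by group
      rw [e2, h2, inv_inv]
  have h2 : Commute (y ^ 2) v := mul_inv_eq_iff_eq_mul.1 h1
  have h3 : Commute ((y ^ 2) ^ 4) v := h2.pow_left 4
  have h4 : (y ^ 2) ^ 4 = y := by
    rw [← pow_mul]
    show y ^ (7 + 1) = y
    rw [pow_succ, hy, one_mul]
  rw [h4] at h3
  exact h3

/-- No element of order 77. -/
theorem not_dvd {y t : ON} (hy : orderOf y = 7) (ht : orderOf t = 2) (hyt : y * t = t * y) :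
    ¬ 11 ∣ Nat.card (centralizer ({y} : Set ON)) := by
  intro h11
  have f11 : Fact (Nat.Prime 11) := ⟨by norm_num⟩
  obtain ⟨h1, h2⟩ := orderOf_two ht
  obtain ⟨g, hg⟩ := isConj_iff.1 (Cfsg.Agent.KFacts.ON.OneClass.one_class h1 h2)
  set y' := g * y * g⁻¹ with hy'
  have hyo : orderOf y' = 7 := by
    rw [hy', ← hy]
    exact (MulEquiv.orderOf_eq (MulAut.conj g) y)
  rw [← centralizer_conj g y, ← hy'] at h11
  have h3 : y' * on .f = on .f * y' := by
    rw [← hg, hy']
    have e1 : g * y * g⁻¹ * (g * t * g⁻¹) = g * (y * t) * g⁻¹ := by group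
    have e2 : g * t * g⁻¹ * (g * y * g⁻¹) = g * (t * y) * g⁻¹ := by group
    rw [e1, e2, hyt]
  have h4 := comm_v (by rw [← hyo]; exact pow_orderOf_eq_one y') h3
  have hs := Cfsg.Agent.CpAutON.Seven.solvable (fun K _ _ hK => Cfsg.Agent.S0205.result hK) hyo
  have hd : Nat.card (centralizer ({y'} : Set ON)) ∣ 460815505920 := card_ON ▸ card_subgroup_dvd_card _
  have hvm : v ∈ centralizer ({y'} : Set ON) := mem_centralizer_singleton_iff.2 h4.symm
  have hv4 : (⟨v, hvm⟩ : centralizer ({y'} : Set ON)) ^ 4 = 1 := Subtype.ext Cfsg.Agent.CpAutON.Codes.v_four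
  obtain ⟨z, hz, hzv⟩ := key hs h11 (fun h => absurd (h.trans hd) (by norm_num))
    (fun h => absurd (h.trans hd) (by norm_num)) hv4
  have h5 : (z : ON) * on .f = on .f * z := by
    have h6 := congrArg (fun c : centralizer ({y'} : Set ON) => (c : ON)) hzv
    simp only [Subgroup.coe_mul, SubmonoidClass.coe_pow] at h6
    rw [pow_two, vv] at h6
    exact h6
  have h6 : orderOf (⟨(z : ON), mem_centralizer_singleton_iff.2 h5⟩ : centralizer ({on .f} : Set ON)) = 11 := by
    rw [Subgroup.orderOf_mk, Subgroup.orderOf_coe]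
    exact hz
  have h7 : 11 ∣ 161280 := by
    rw [← Cfsg.Agent.KFacts.ON.Cent.card_cent, ← h6]
    exact orderOf_dvd_natCard _
  exact absurd h7 (by norm_num)

theorem arith (e a b : ℕ) (he : e ∣ 11 - 1) (he2 : Even e) (hb : b ∣ 161280) (hb2 : Odd b)
    (h1 : (e * (a * b)) % 11 = 460815505920 / 11 % 11)
    (h2 : (a * 161280) % 11 = 460815505920 / 11 % 11) : 7 ∣ b := by
  norm_num at h1 h2 he
  have hb' : b ∣ 315 := by
    have h3 : Nat.Coprime b (2 ^ 9) := Nat.Coprime.pow_right 9 (Nat.coprime_two_right.2 hb2)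
    exact h3.dvd_of_dvd_mul_left (by norm_num; exact hb)
  have hbm : b ∈ ({1, 3, 5, 7, 9, 15, 21, 35, 45, 63, 105, 315} : Finset ℕ) := by
    have : b ∈ Nat.divisors 315 := Nat.mem_divisors.2 ⟨hb', by norm_num⟩
    have h4 : Nat.divisors 315 = {1, 3, 5, 7, 9, 15, 21, 35, 45, 63, 105, 315} := by decide +kernel
    rwa [h4] at this
  have hem : e ∈ ({2, 10} : Finset ℕ) := by
    have : e ∈ (Nat.divisors 10).filter (fun e => Even e) :=
      Finset.mem_filter.2 ⟨Nat.mem_divisors.2 ⟨he, by norm_num⟩, he2⟩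
    have h4 : (Nat.divisors 10).filter (fun e => Even e) = {2, 10} := by decide +kernel
    rwa [h4] at this
  have ha' : a % 11 = 6 := by omega
  have key : ∀ e ∈ ({2, 10} : Finset ℕ), ∀ b ∈ ({1, 3, 5, 7, 9, 15, 21, 35, 45, 63, 105, 315} : Finset ℕ),
      (e * (6 * b)) % 11 = 10 → 7 ∣ b := by decide +kernel
  refine key e hem b hbm ?_
  rw [← h1, Nat.mul_mod, Nat.mul_mod 6, Nat.mul_mod e, Nat.mul_mod a, ha']

theorem hasDZ_11 : HasDZ 11 ON := by
  have : Fact (Nat.Prime 11) := ⟨by norm_num⟩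
  have : Fact (Nat.Prime 7) := ⟨by norm_num⟩
  refine hasDZ_of_card (by norm_num) (by rw [card_ON]; exact factorization_eq_one (by norm_num) (by norm_num))
    (by rw [card_ON]; norm_num) (m := 161280) (fun u hu => card_inv hu) (by norm_num) ?_
  intro e a b x t hx ht hb he he2 hbm hbo hao hd h1 h2
  rw [card_ON] at h1 h2
  have h7 := arith e a b he he2 hbm hbo h1 h2
  rw [← hb] at h7
  obtain ⟨⟨y, hy⟩, hy'⟩ := exists_prime_orderOf_dvd_card' 7 h7
  rw [Subgroup.orderOf_mk] at hy'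
  have hyt : y * t = t * y := mem_centralizer_singleton_iff.1 hy.2
  refine not_dvd hy' ht hyt ?_
  have hxm : x ∈ centralizer ({y} : Set ON) :=
    mem_centralizer_singleton_iff.2 (mem_centralizer_singleton_iff.1 hy.1).symm
  rw [← hx, ← Subgroup.orderOf_mk x hxm]
  exact orderOf_dvd_natCard _

theorem hasDZ {K : Type u} [Group K] (h : Spor.IsoON K) {p : ℕ} (hp : p = 11 ∨ p = 19) : HasDZ p K := by
  obtain ⟨e⟩ := h
  refine HasDZ.mulEquiv e.symm ?_
  rcases hp with rfl | rfl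
  · exact hasDZ_11
  · exact Cfsg.Agent.H713.Spor.ON.hasDZ_19

theorem good {K : Type u} [Group K] (h : Spor.IsoON K) : Good K := by
  have hc : Nat.card K = 460815505920 := by
    obtain ⟨e⟩ := h
    rw [Nat.card_congr e.toEquiv, card_ON]
  have : Finite K := Nat.finite_of_card_ne_zero (by rw [hc]; norm_num)
  exact GoodTool.good_of_dz (p := 11) (q := 19) (by norm_num) (by norm_num) (by norm_num) (hasDZ h (Or.inl rfl))
    (hasDZ h (Or.inr rfl)) (by rw [hc]; norm_num) (by rw [hc]; norm_num)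

end Cfsg.Agent.H690.Spor.ONRow
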