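import Cfsg.Agent.H713.Engine
import Cfsg.Agent.H665.DefZero
import Cfsg.Agent.H672.Over
import Cfsg.Agent.H403.SporOrd
import Cfsg.Agent.OrdDiv.Table
import Cfsg.Agent.Fischer.Centralizer
import Cfsg.Agent.S0466
import Cfsg.Agent.S0468
import Cfsg.Agent.S0471
import Cfsg.Agent.S0472
import Cfsg.Agent.S0473

/-!
# Characters of defect zero from classes of transpositions (helper690)

`D` a class of involutions such that the product of two members has order at most `m < p`, `p` does not divide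
`#C(d)`: there is a character of `p`-defect zero.

* `b` : `B`, `p = 23, 31, 47`
* `m` : `M`, `p = 29, 41, 59, 71`
* `fi22` : `Fi22`, `p = 13`
* `fi23` : `Fi23`, `p = 17, 23`
* `fi24` : `Fi24'`, `p = 29`
-/

set_option autoImplicit false

namespace Cfsg.Agent.H690.Spor.Trans

open Cfsg Cfsg.Agent.H713 Cfsg.Agent.H665.NoPQ Cfsg.Agent.OrdDiv

universe u

/-- Defect zero from a class of transpositions. -/
theorem hasDZ_of_class {G : Type*} [Group G] [Finite G] {D : Set G} {m p : ℕ} [Fact p.Prime]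
    (hD : ∃ d ∈ D, D = conjugatesOf d) (h2 : ∀ d ∈ D, orderOf d = 2)
    (hm : ∀ d ∈ D, ∀ e ∈ D, orderOf (d * e) ≤ m) (hmp : m < p)
    (hc : ∀ d ∈ D, ¬ p ∣ Nat.card (Subgroup.centralizer ({d} : Set G))) : HasDZ p G := by
  obtain ⟨d, hd, hDd⟩ := hD
  rcases Cfsg.Agent.H665.DefZero.defectZero_or p d (hc d hd) with h | ⟨g, k, hg, hk, hne, n, hn⟩
  · exact h
  · exfalso
    have hgD : g ∈ D := by rw [hDd]; exact hg
    have hkD : k ∈ D := by rw [hDd]; exact hk
    have hk2 : k⁻¹ = k := by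
      have := pow_orderOf_eq_one k
      rw [h2 k hkD, pow_two] at this
      exact inv_eq_of_mul_eq_one_left this
    rw [hk2] at hn hne
    have h1 := hm g hgD k hkD
    rw [hn] at h1
    have hn0 : n ≠ 0 := by
      rintro rfl
      rw [pow_zero, orderOf_eq_one_iff] at hn
      exact hne hn
    have h3 : p ≤ p ^ n := Nat.le_self_pow hn0 p
    omega

/-- Restriction to a normal subgroup. -/
theorem hasDZ_restrict {G : Type*} [Group G] [Finite G] {p : ℕ} [hp : Fact p.Prime] (N : Subgroup G) [N.Normal]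
    (h : HasDZ p G) : HasDZ p N := by
  obtain ⟨χ, hχ⟩ := h
  obtain ⟨θ, hθ, ho⟩ := Cfsg.Agent.H672.exists_under (f := N.subtype) χ.2
  obtain ⟨⟨a, ha⟩, hb⟩ := Cfsg.Agent.H672.charDegree_dvd_of_over N χ.2 hθ ho
  have h0 := Cfsg.Agent.Blocks.Basic.charDegree_pos χ.2
  have h1 := Cfsg.Agent.Blocks.Basic.charDegree_pos hθ
  rw [ha, Nat.mul_div_cancel_left _ h1] at hb
  have ha0 : a ≠ 0 := by
    rintro rfl
    omega
  have hN0 : N.index ≠ 0 := Subgroup.index_ne_zero_of_finite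
  refine ⟨⟨θ, hθ⟩, le_antisymm ?_ ?_⟩
  · exact (Nat.factorization_le_iff_dvd h1.ne' Nat.card_pos.ne').2 (Cfsg.Agent.Blocks.Knorr.charDegree_dvd hθ) p
  · have h2 := (Nat.factorization_le_iff_dvd ha0 hN0).2 hb p
    rw [ha, Nat.factorization_mul h1.ne' ha0, Finsupp.add_apply, ← Subgroup.card_mul_index N,
      Nat.factorization_mul Nat.card_pos.ne' hN0, Finsupp.add_apply] at hχ
    show (Nat.card N).factorization p ≤ (charDegree θ).factorization p
    omega

/-- All finite simple groups of `Type` are known. -/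
def AllKnown : Prop := ∀ (X : Type) [Group X] [Finite X] [IsSimpleGroup X], IsKnownSimple' X

/-- Groups of the same sporadic order. -/
theorem real_of (hS : AllKnown) {G : Type} [Group G] [Finite G] (hs : IsSimpleGroup G) {x : Grp × ℕ × List (ℕ × ℕ)}
    (hx : x ∈ Cfsg.Agent.H403.sporFac) (hc : Nat.card G = x.2.1) : Real x.1 G := by
  refine Cfsg.Agent.H403.real_of_card Cfsg.Agent.OrdDiv.table (hS G) ?_ hx hc
  intro hcomm
  have h1 : ∀ y ∈ Cfsg.Agent.H403.sporFac, ¬ y.2.1.Prime := by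
    intro y hy
    have h2 : Cfsg.Agent.H403.sporFac.all (fun y => decide (y.2.1 % 2 = 0 ∧ 2 < y.2.1)) = true := by decide +kernel
    have h3 := of_decide_eq_true (List.all_eq_true.1 h2 y hy)
    intro hp
    rcases hp.eq_one_or_self_of_dvd 2 (Nat.dvd_of_mod_eq_zero h3.1) with h | h <;> omega
  apply h1 x hx
  rw [← hc]
  let _ : CommGroup G := { (inferInstance : Group G) with mul_comm := hcomm }
  exact IsSimpleGroup.prime_card

theorem b (hS : AllKnown) {K : Type u} [Group K] (h : Spor.IsoB K) {p : ℕ} (hp : p = 23 ∨ p = 31 ∨ p = 47) : HasDZ p K := by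
  obtain ⟨G, _, _, ⟨hs, hG⟩, D, hD, -, h2, h4, hc⟩ := Cfsg.Agent.S0466.result
  have hR : Real .b G := real_of hS (x := (.b, 4154781481226426191177580544000000,
    [(2,41),(3,13),(5,6),(7,2),(11,1),(13,1),(17,1),(19,1),(23,1),(31,1),(47,1)])) hs (by decide +kernel) hG
  obtain ⟨e⟩ := (hR : Spor.IsoB G)
  obtain ⟨e'⟩ := h
  have hpp : Fact p.Prime := ⟨by rcases hp with rfl | rfl | rfl <;> norm_num⟩
  refine HasDZ.mulEquiv (e.trans e'.symm) (hasDZ_of_class hD h2 h4 (by omega) fun d hd => ?_)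
  rw [hc d hd]
  rcases hp with rfl | rfl | rfl <;> norm_num

theorem m (hS : AllKnown) {K : Type u} [Group K] (h : Spor.IsoM K) {p : ℕ} (hp : p = 29 ∨ p = 41 ∨ p = 59 ∨ p = 71) :
    HasDZ p K := by
  obtain ⟨G, _, _, ⟨hs, hG⟩, D, hD, -, h2, h6, hc⟩ := Cfsg.Agent.S0468.result
  have hR : Real .m G := real_of hS (x := (.m, 808017424794512875886459904961710757005754368000000000,
    [(2,46),(3,20),(5,9),(7,6),(11,2),(13,3),(17,1),(19,1),(23,1),(29,1),(31,1),(41,1),(47,1),(59,1),(71,1)])) hs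
    (by decide +kernel) hG
  obtain ⟨e⟩ := (hR : Spor.IsoM G)
  obtain ⟨e'⟩ := h
  have hpp : Fact p.Prime := ⟨by rcases hp with rfl | rfl | rfl | rfl <;> norm_num⟩
  refine HasDZ.mulEquiv (e.trans e'.symm) (hasDZ_of_class hD h2 h6 (by omega) fun d hd => ?_)
  obtain ⟨L, _, ⟨-, hL⟩, hcov⟩ := hc d hd
  rw [Cfsg.Agent.Fischer.Centralizer.card_of_doubleCover hcov, hL]
  rcases hp with rfl | rfl | rfl | rfl <;> norm_num

theorem three {G : Type*} [Group G] [Finite G] {D : Set G} (h : IsThreeTranspositionClass D) {p : ℕ}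
    [Fact p.Prime] (hp : 3 < p) (hc : ∀ d ∈ D, ¬ p ∣ Nat.card (Subgroup.centralizer ({d} : Set G))) :
    HasDZ p G := by
  refine hasDZ_of_class h.2.1 h.1.1 (fun d hd e he => ?_) hp hc
  rcases h.1.2 d hd e he with h1 | h1
  · exact (Nat.le_of_dvd (by norm_num) (orderOf_dvd_of_pow_eq_one h1)).trans (by norm_num)
  · exact Nat.le_of_dvd (by norm_num) (orderOf_dvd_of_pow_eq_one h1)

theorem fi23 (hS : AllKnown) {K : Type u} [Group K] (h : Spor.IsoFi23 K) {p : ℕ} (hp : p = 17 ∨ p = 23) : HasDZ p K := by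
  obtain ⟨G, _, _, ⟨hs, hG⟩, D, hD, -, hc⟩ := Cfsg.Agent.S0472.result
  have hR : Real .fi23 G := real_of hS (x := (.fi23, 4089470473293004800,
    [(2,18),(3,13),(5,2),(7,1),(11,1),(13,1),(17,1),(23,1)])) hs (by decide +kernel) hG
  obtain ⟨e⟩ := (hR : Spor.IsoFi23 G)
  obtain ⟨e'⟩ := h
  have hpp : Fact p.Prime := ⟨by rcases hp with rfl | rfl <;> norm_num⟩
  refine HasDZ.mulEquiv (e.trans e'.symm) (three hD (by omega) fun d hd => ?_)
  obtain ⟨L, _, ⟨-, hL⟩, hcov⟩ := hc d hd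
  rw [Cfsg.Agent.Fischer.Centralizer.card_of_doubleCover hcov, hL]
  rcases hp with rfl | rfl <;> norm_num

theorem fi24 (hS : AllKnown) {K : Type u} [Group K] (h : Spor.IsoFi24' K) : HasDZ 29 K := by
  obtain ⟨G, _, _, hG, D, hD, -, hc, H, hidx, ⟨hs, hH⟩, -⟩ := Cfsg.Agent.S0473.result
  have hR : Real .fi24 H := real_of hS (x := (.fi24, 1255205709190661721292800,
    [(2,21),(3,16),(5,2),(7,3),(11,1),(13,1),(17,1),(23,1),(29,1)])) hs (by decide +kernel) hH
  obtain ⟨e⟩ := (hR : Spor.IsoFi24' H)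
  obtain ⟨e'⟩ := h
  have hpp : Fact (Nat.Prime 29) := ⟨by norm_num⟩
  have : H.Normal := Subgroup.normal_of_index_eq_two hidx
  refine HasDZ.mulEquiv (e.trans e'.symm) (hasDZ_restrict H (three hD (by norm_num) fun d hd => ?_))
  rw [(hc d hd).1]
  norm_num

end Cfsg.Agent.H690.Spor.Trans
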