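import Cfsg.Agent.H690.Spor.RankThree
import Cfsg.Agent.H713.Engine
import Cfsg.Agent.OrdDiv.Table
import Cfsg.Agent.S1680
import Cfsg.Agent.S1687
import Cfsg.Agent.S1689
import Cfsg.Agent.S1624

/-!
# Characters of defect zero from permutation representations of rank 3 (helper690)

* `suz` : `p = 7, 11`
* `fi22` : `p = 7, 13`
* `fi23` : `p = 11, 13, 17, 23`
* `j2` : `p = 7`
-/

set_option autoImplicit false

namespace Cfsg.Agent.H690.Spor.RankRows

open Cfsg Cfsg.Agent.H713 Cfsg.Agent.H665.NoPQ Cfsg.Agent.OrdDiv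

universe u

/-- The factorization of an explicit number. -/
theorem fac {N p n m : ℕ} (hp : p.Prime) (hN : N = p ^ n * m) (hm : ¬ p ∣ m) : N.factorization p = n := by
  have hm0 : m ≠ 0 := by
    rintro rfl
    exact hm (dvd_zero p)
  rw [hN, Nat.factorization_mul (pow_ne_zero _ hp.pos.ne') hm0, Nat.factorization_pow]
  simp [hp.factorization_self, Nat.factorization_eq_zero_of_not_dvd hm]

theorem suz {K : Type u} [Group K] (h : Spor.IsoSuz K) {p : ℕ} (hp : p = 7 ∨ p = 11) : HasDZ p K := by
  have hc : Nat.card Spor.Suz = 448345497600 :=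
    table_spor Spor.Suz (.suz, 448345497600) (by decide +kernel) ⟨MulEquiv.refl _⟩
  have : Finite Spor.Suz := Nat.finite_of_card_ne_zero (by rw [hc]; norm_num)
  obtain ⟨e⟩ := h
  refine HasDZ.mulEquiv e.symm ?_
  obtain ⟨h1, h2⟩ := Cfsg.Agent.S1680.result
  refine RankThree.hasDZ_of_index _ (k := 416) (l := 1365) h1 h2 (by norm_num) (by norm_num) (by norm_num)
    (Or.inl (by decide)) ?_ ?_
  · rw [hc]
    rcases hp with rfl | rfl
    · exact fac (n := 1) (m := 64049356800) (by norm_num) (by norm_num) (by norm_num)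
    · exact fac (n := 1) (m := 40758681600) (by norm_num) (by norm_num) (by norm_num)
  · rcases hp with rfl | rfl
    · rw [fac (n := 1) (m := (1 + 416 + 1365) * 416 * 195) (by norm_num) (by norm_num) (by norm_num)]
      decide
    · rw [fac (n := 1) (m := 162 * 416 * 1365) (by norm_num) (by norm_num) (by norm_num)]
      decide

end Cfsg.Agent.H690.Spor.RankRows
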