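import Cfsg.Agent.H620.RowSporB
import Cfsg.Agent.H690.Spor.ONRow
import Cfsg.Agent.H690.AltGood
import Cfsg.Agent.H710.Spor.Good
import Cfsg.Agent.H419.Spor.Co1

/-!
# `Good` for the sporadic groups (helper690)
-/

set_option autoImplicit false

namespace Cfsg.Agent.H690.Spor.Table

open Cfsg Cfsg.Agent.H713 Cfsg.Agent.H665.NoPQ Cfsg.Agent.H690.LieGood Cfsg.Agent.H690.Spor.GoodTool
open Cfsg.Agent.H620 Cfsg.Agent.H620.RowSporA Cfsg.Agent.H620.RowSporB

universe u

theorem ne_one_of_vz {S : Type*} [Group S] [Finite S] {x : S} (hx : VZ S x) : x ≠ 1 := by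
  rintro rfl
  obtain ⟨χ, h⟩ := hx.van
  have h1 := Cfsg.Agent.Blocks.Basic.charDegree_pos χ.2
  rw [Cfsg.Agent.Blocks.Basic.irr_one_eq_charDegree χ.2] at h
  have h2 : charDegree (χ : S → ℂ) = 0 := by exact_mod_cast h
  omega

theorem good_of_row56 {S : Type*} [Group S] [Finite S] (h : Row56 S) : Good S := by
  intro p hp
  obtain ⟨x, hx, hpx⟩ := h p hp
  refine ⟨x, hx, fun m hm => ?_⟩
  cases m with
  | zero =>
    rw [pow_zero, orderOf_eq_one_iff] at hm
    exact ne_one_of_vz hx hm
  | succ m =>
    apply hpx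
    rw [hm]
    exact dvd_pow_self p (Nat.succ_ne_zero m)

/-- The sporadic groups; the rows of `Th` and `HN` are hypotheses. -/
theorem good {K : Type u} [Group K] [Finite K] (hS : Cfsg.Agent.H690.Spor.Trans.AllKnown)
    (hTh : Spor.IsoTh K → Good K) (hHN : Spor.IsoHN K → Good K) (h : IsSporadicGroup K) : Good K := by
  rcases h with h | h | h | h | h | h | h | h | h | h | h | h | h | h | h | h | h | h | h | h | h | h | h | h | h | h
  · exact good_of_row56 (rows_m11 h).1
  · exact good_of_row56 (rows_m12 h).1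
  · exact good_of_row56 (rows_m22 h).1
  · exact good_of_row56 (rows_m23 h).1
  · exact good_of_row56 (rows_m24 h).1
  · exact good_of_row56 (rows_j1 h).1
  · exact good_of_row56 (rows_j2 h).1
  · exact good_of_row56 (rows_j3 h).1
  · exact good_of_row56 (rows_j4 h).1
  · exact good_of_evMix (H419.Spor.Co1.evMix_co1 h)
  · exact good_of_row56 (rows_co2 h).1
  · exact good_of_row56 (rows_co3 h).1
  · exact good_of_row56 (rows_mcl h).1
  · exact good_of_row56 (rows_hs h).1
  · exact SuzRow.good h
  · exact H710.Spor.Good.good_he h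
  · exact Ru.good h
  · exact ONRow.good h
  · exact H710.Spor.Good.good_ly h
  · exact good_of_row56 (rows_fi22 h).1
  · exact good_of_row56 (rows_fi23 h).1
  · exact good_of_row56 (rows_fi24 h).1
  · exact hHN h
  · exact hTh h
  · exact good_of_row56 (rows_b hS h).1
  · exact good_of_row56 (rows_m h).1

end Cfsg.Agent.H690.Spor.Table
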