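import Cfsg.Agent.H690.Spor.GoodTool
import Cfsg.Agent.H695.Third
import Cfsg.Agent.H710.Spor.HN
import Cfsg.Agent.H723.Spor.Th

/-!
# `Good` for `Th` and `HN` (helper690)

One prime with a character of defect zero and a second prime, for the extension theorem of `H695.Third`.
-/

set_option autoImplicit false

namespace Cfsg.Agent.H690.Spor.ThHN

open Cfsg Cfsg.Agent.H713 Cfsg.Agent.H665.NoPQ Cfsg.Agent.H690.LieGood Cfsg.Agent.H690.Spor.GoodTool

universe u

theorem ne_one_of_vz {S : Type*} [Group S] [Finite S] {x : S} (hx : VZ S x) : x ≠ 1 := by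
  rintro rfl
  obtain ⟨χ, h⟩ := hx.van
  have h1 := Cfsg.Agent.Blocks.Basic.charDegree_pos χ.2
  rw [Cfsg.Agent.Blocks.Basic.irr_one_eq_charDegree χ.2] at h
  have h2 : charDegree (χ : S → ℂ) = 0 := by exact_mod_cast h
  omega

theorem good_of_single {S : Type u} [Group S] [Finite S] [IsSimpleGroup S] (hna : ∃ a b : S, a * b ≠ b * a)
    {p q : ℕ} (hp : p.Prime) (hq : q.Prime) (hpq : p ≠ q) (hGp : (Nat.card S).factorization p = 1)
    (hGq : (Nat.card S).factorization q = 1) (hout : Nat.card (Out S) ∣ 2) (hd : HasDZ p S) : Good S := by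
  have : Fact p.Prime := ⟨hp⟩
  have : Fact q.Prime := ⟨hq⟩
  have hpS : p ∣ Nat.card S := by
    have := Nat.ordProj_dvd (Nat.card S) p
    rwa [hGp, pow_one] at this
  have hpS2 : ¬ p * p ∣ Nat.card S := by
    intro h
    rw [← pow_two] at h
    have := (hp.pow_dvd_iff_le_factorization Nat.card_pos.ne').1 h
    omega
  by_cases hiso : ∀ y : S, p ∣ orderOf y → orderOf y = p
  · obtain ⟨g, hg, h1, h2⟩ := Cfsg.Agent.H695.Third.exists_vz hna hpq hGp hGq hiso hout
    obtain ⟨y, hy⟩ := exists_prime_orderOf_dvd_card' (G := S) p hpS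
    intro r hr
    by_cases hrp : r = p
    · refine ⟨g, hg, fun m hm => ?_⟩
      rw [hrp] at hm
      cases m with
      | zero =>
        rw [pow_zero, orderOf_eq_one_iff] at hm
        exact ne_one_of_vz hg hm
      | succ m =>
        apply h1
        rw [hm]
        exact dvd_pow_self p (Nat.succ_ne_zero m)
    · refine ⟨y, HasDZ.vz hd (by rw [hy]), fun m hm => ?_⟩
      rw [hy] at hm
      have h3 : p ∣ r ^ m := hm ▸ dvd_rfl
      exact hrp ((Nat.prime_dvd_prime_iff_eq hp hr).1 (hp.dvd_of_dvd_pow h3)).symm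
  · push Not at hiso
    obtain ⟨y, hy, hy'⟩ := hiso
    exact good_of_elt hp hpS2 hd hy hy'

theorem nonabelian {S : Type*} [Group S] [Finite S] [IsSimpleGroup S] {p q : ℕ} (hp : p.Prime) (hq : q.Prime)
    (hpq : p ≠ q) (h1 : p ∣ Nat.card S) (h2 : q ∣ Nat.card S) : ∃ a b : S, a * b ≠ b * a := by
  by_contra hcon
  push Not at hcon
  let _ : CommGroup S := { (inferInstance : Group S) with mul_comm := hcon }
  have hpr : (Nat.card S).Prime := IsSimpleGroup.prime_card
  exact hpq (((Nat.prime_dvd_prime_iff_eq hp hpr).1 h1).trans ((Nat.prime_dvd_prime_iff_eq hq hpr).1 h2).symm)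

theorem good_th {K : Type u} [Group K] (h : Spor.IsoTh K) : Good K := by
  obtain ⟨e⟩ := h
  have : Fact (Nat.Prime 31) := ⟨by norm_num⟩
  have : Fact (Nat.Prime 19) := ⟨by norm_num⟩
  have : Finite Spor.Th := Nat.finite_of_card_ne_zero (by rw [H723.Spor.Th.card_th]; norm_num)
  have : IsSimpleGroup Spor.Th := Cfsg.Agent.S1700.result.1
  refine Good.congr e.symm (good_of_single (p := 31) (q := 19)
    (nonabelian (p := 31) (q := 19) (by norm_num) (by norm_num) (by norm_num) ?_ ?_)
    (by norm_num) (by norm_num) (by norm_num) ?_ ?_ ?_ H723.Spor.Th.hasDZ_31)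
  · rw [H723.Spor.Th.card_th]; norm_num
  · rw [H723.Spor.Th.card_th]; norm_num
  · rw [H723.Spor.Th.card_th]; exact factorization_eq_one (by norm_num) (by norm_num)
  · rw [H723.Spor.Th.card_th]; exact factorization_eq_one (by norm_num) (by norm_num)
  · rw [Cfsg.Agent.S2083.result]; exact one_dvd _

theorem good_hn {K : Type u} [Group K] (h : Spor.IsoHN K) : Good K := by
  obtain ⟨e⟩ := h
  have : Fact (Nat.Prime 19) := ⟨by norm_num⟩
  have : Fact (Nat.Prime 11) := ⟨by norm_num⟩
  have := H710.Spor.HN.finite_hn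
  have := H710.Spor.HN.isSimple_hn
  have hc := H710.Spor.HN.card_hn
  refine Good.congr e.symm (good_of_single (p := 19) (q := 11)
    (nonabelian (p := 19) (q := 11) (by norm_num) (by norm_num) (by norm_num) ?_ ?_)
    (by norm_num) (by norm_num) (by norm_num) ?_ ?_ ?_ H710.Spor.HN.hasDZ_19)
  · rw [hc]; norm_num
  · rw [hc]; norm_num
  · rw [hc]; exact factorization_eq_one (by norm_num) (by norm_num)
  · rw [hc]; exact factorization_eq_one (by norm_num) (by norm_num)
  · rw [Cfsg.Agent.S2082.result]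

end Cfsg.Agent.H690.Spor.ThHN
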